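import Groth.Agent.SSMod.K844.NodalPt
import Groth.Agent.SSMod.K844.ResPt
import Groth.Agent.SSMod.K807.Iface
import Groth.Agent.S1471
import Groth.Agent.VarietyB.ResMap
import Groth.Agent.CycB.P1PtClosure

/-!
# Centres: `K807.Iface.Center`

`X`, `Y` modifications of `C` over a discrete valuation ring `R` with algebraically closed residue field, `X` nodal, `ξ ∈ X` a
non-closed point of the special fibre with centre `e v` on `Y`, `e : V ⟶ Y` étale.  The local ring `A` of `X` at `ξ` is a
discrete valuation ring unramified over `R`, `c : Spec A ⟶ Y` its centre, and `T` is the local ring of `V ×_Y Spec A` at the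
unique point over `v` and the closed point of `Spec A`.
-/

set_option autoImplicit false
universe u
open CategoryTheory CategoryTheory.Limits AlgebraicGeometry IsLocalRing

namespace K844.Center

section General

theorem specMap_stalkHom {B : Type u} [CommRing B] {X : Scheme.{u}} (h : X ⟶ Spec (CommRingCat.of B)) (x : X) :
    Spec.map (CommRingCat.ofHom (DualGr.stalkHom h x)) = X.fromSpecStalk x ≫ h := by
  have h1 : CommRingCat.ofHom (DualGr.stalkHom h x) =
      CommRingCat.ofHom (R := B) (S := Γ(X, ⊤)) (Coh.toGlobal h) ≫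
        X.presheaf.germ ⊤ x trivial := rfl
  rw [h1, Spec.map_comp, ← Scheme.fromSpecStalk_toSpecΓ, Category.assoc,
    Groth.Agent.VarietyB.ResMap.specMap_toGlobal]

theorem flat_of_mono {Z W X : Scheme.{u}} (u : Z ⟶ W) (m : W ⟶ X) [Mono m] (h : Flat (u ≫ m)) : Flat u :=
  MorphismProperty.of_postcomp (W := @Flat) (W' := MorphismProperty.monomorphisms Scheme.{u}) u m
    (inferInstanceAs (Mono m)) h

theorem flat_of_etale {Z W X : Scheme.{u}} (u : Z ⟶ W) (m : W ⟶ X) [Etale m] (h : Flat (u ≫ m)) : Flat u := by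
  have h1 : MorphismProperty.HasOfPostcompProperty @Flat.{u} @Etale.{u} := by
    rw [MorphismProperty.hasOfPostcompProperty_iff_le_diagonal]
    intro X Y f hf
    have : IsOpenImmersion (pullback.diagonal f) := inferInstance
    exact inferInstanceAs (Flat (pullback.diagonal f))
  exact MorphismProperty.of_postcomp (W := @Flat) (W' := @Etale) u m ‹Etale m› h

/-- Flatness of points in modifications which are isomorphisms on generic fibres. -/
theorem flat_of_isEtaIso {S C X Y Z : Scheme.{u}} [IsIntegral S] (φ : C ⟶ S) (f : X ⟶ C) (hf : SSMod.IsEtaIso φ f)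
    (g : Y ⟶ C) (hg : SSMod.IsEtaIso φ g) (t : Z ⟶ X) (ht : Flat t) (t' : Z ⟶ Y) (h : t' ≫ g = t ≫ f)
    (a : Z ⟶ Spec (S.presheaf.stalk (genericPoint S))) (ha : t ≫ f ≫ φ = a ≫ S.fromSpecStalk (genericPoint S)) :
    Flat t' := by
  have hγ : Flat (S.fromSpecStalk (genericPoint S)) := Groth.Agent.S1471.flat_fromSpecStalk S _
  have hf' : IsIso (pullback.snd f (pullback.fst φ (S.fromSpecStalk (genericPoint S)))) := hf
  have hg' : IsIso (pullback.snd g (pullback.fst φ (S.fromSpecStalk (genericPoint S)))) := hg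
  let lC : Z ⟶ pullback φ (S.fromSpecStalk (genericPoint S)) :=
    pullback.lift (t ≫ f) a (by rw [Category.assoc, ha])
  have hlC : lC ≫ pullback.fst _ _ = t ≫ f := pullback.lift_fst _ _ _
  let lX : Z ⟶ pullback f (pullback.fst φ (S.fromSpecStalk (genericPoint S))) := pullback.lift t lC hlC.symm
  have hlX1 : lX ≫ pullback.fst _ _ = t := pullback.lift_fst _ _ _
  have hlX2 : lX ≫ pullback.snd _ _ = lC := pullback.lift_snd _ _ _
  let lY : Z ⟶ pullback g (pullback.fst φ (S.fromSpecStalk (genericPoint S))) :=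
    pullback.lift t' lC (by rw [hlC, h])
  have hlY1 : lY ≫ pullback.fst _ _ = t' := pullback.lift_fst _ _ _
  have hlY2 : lY ≫ pullback.snd _ _ = lC := pullback.lift_snd _ _ _
  have h1 : Flat lX := flat_of_mono lX (pullback.fst _ _) (by rw [hlX1]; exact ht)
  have h2 : Flat lC := by rw [← hlX2]; infer_instance
  have h3 : Flat lY := by
    have h4 : lY = lC ≫ inv (pullback.snd g (pullback.fst φ (S.fromSpecStalk (genericPoint S)))) := by
      rw [← hlY2, Category.assoc, IsIso.hom_inv_id, Category.comp_id]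
    rw [h4]
    infer_instance
  rw [← hlY1]
  infer_instance

theorem flat_spec_fractionRing (A : Type u) [CommRing A] [IsDomain A] :
    Flat (Spec.map (CommRingCat.ofHom (algebraMap A (FractionRing A)))) := by
  rw [Flat.SpecMap_iff]
  have : Module.Flat A (FractionRing A) := IsLocalization.flat (FractionRing A) (nonZeroDivisors A)
  exact RingHom.flat_algebraMap_iff.2 this

theorem spec_fractionRing_apply (A : Type u) [CommRing A] [IsDomain A] :
    (Spec.map (CommRingCat.ofHom (algebraMap A (FractionRing A))))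
      (closedPoint (FractionRing A) : PrimeSpectrum (FractionRing A)) = (⊥ : PrimeSpectrum A) := by
  apply PrimeSpectrum.ext
  change (maximalIdeal (FractionRing A)).comap (algebraMap A (FractionRing A)) = ⊥
  rw [IsLocalRing.maximalIdeal_eq_bot, ← RingHom.ker_eq_comap_bot]
  exact (RingHom.injective_iff_ker_eq_bot _).1 (IsFractionRing.injective A (FractionRing A))

theorem flat_spec_of_field {K L : Type u} [Field K] [Field L] (θ : K →+* L) :
    Flat (Spec.map (CommRingCat.ofHom θ)) := by
  rw [Flat.SpecMap_iff]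
  let alg : Algebra K L := θ.toAlgebra
  exact (inferInstance : Module.Flat K L)

/-- The generic point of a valuation ring of `X`, seen in `Y`. -/
theorem flat_center {R : Type u} [CommRing R] [IsDomain R] [IsDiscreteValuationRing R] {C X Y : Scheme.{u}}
    (φ : C ⟶ Spec (CommRingCat.of R)) (f : X ⟶ C) (hf : SSMod.IsEtaIso φ f)
    (g : Y ⟶ C) (hg : SSMod.IsEtaIso φ g) {A : Type u} [CommRing A] [IsDomain A]
    (i : Spec (CommRingCat.of A) ⟶ X) (hi : Flat i) (c : Spec (CommRingCat.of A) ⟶ Y) (hc : c ≫ g = i ≫ f)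
    (hA : φ (f (i (⊥ : PrimeSpectrum A))) ≠ (closedPoint R : PrimeSpectrum R)) :
    Flat (Spec.map (CommRingCat.ofHom (algebraMap A (FractionRing A))) ≫ c) := by
  have hjA := spec_fractionRing_apply A
  have hfl := flat_spec_fractionRing A
  generalize Spec.map (CommRingCat.ofHom (algebraMap A (FractionRing A))) = jA at hjA hfl ⊢
  obtain ⟨ψ, -, hψ⟩ := EtaPts.exists_factor ((jA ≫ i) ≫ f ≫ φ) (genericPoint (Spec (CommRingCat.of R)))
    (EtaPts.eq_genericPoint _ (by
      rw [Scheme.Hom.comp_apply, Scheme.Hom.comp_apply, Scheme.Hom.comp_apply, hjA]; exact hA))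
  exact flat_of_isEtaIso φ f hf g hg (jA ≫ i) inferInstance (jA ≫ c)
    (by rw [Category.assoc, hc, Category.assoc]) _ hψ.symm

theorem exists_fraction_map {A T K L : Type u} [CommRing A] [IsDomain A] [CommRing T] [IsDomain T] [Field K] [Field L]
    [Algebra A K] [IsFractionRing A K] [Algebra T L] [IsFractionRing T L] (τ : A →+* T)
    (hτ : Function.Injective τ) :
    ∃ θ : K →+* L, θ.comp (algebraMap A K) = (algebraMap T L).comp τ := by
  have hinj : Function.Injective ((algebraMap T L).comp τ) := (IsFractionRing.injective T L).comp hτ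
  refine ⟨IsFractionRing.lift hinj, ?_⟩
  ext r
  exact IsFractionRing.lift_algebraMap hinj r

theorem flat_frac {V Y : Scheme.{u}} (e : V ⟶ Y) [Etale e] {A T : Type u} [CommRing A] [IsDomain A] [CommRing T]
    [IsDomain T] (a : Spec (CommRingCat.of T) ⟶ V) (c : Spec (CommRingCat.of A) ⟶ Y) (τ : A →+* T)
    (hτ : Function.Injective τ) (h : a ≫ e = Spec.map (CommRingCat.ofHom τ) ≫ c)
    (hc : Flat (Spec.map (CommRingCat.ofHom (algebraMap A (FractionRing A))) ≫ c)) :
    Flat (Spec.map (CommRingCat.ofHom (algebraMap T (FractionRing T))) ≫ a) := by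
  apply flat_of_etale _ e
  obtain ⟨θ, hθ⟩ := exists_fraction_map (K := FractionRing A) (L := FractionRing T) τ hτ
  have h1 : Spec.map (CommRingCat.ofHom (algebraMap T (FractionRing T))) ≫ Spec.map (CommRingCat.ofHom τ) =
      Spec.map (CommRingCat.ofHom θ) ≫ Spec.map (CommRingCat.ofHom (algebraMap A (FractionRing A))) := by
    rw [← Spec.map_comp, ← Spec.map_comp, ← CommRingCat.ofHom_comp, ← CommRingCat.ofHom_comp, hθ]
  rw [Category.assoc, h, ← Category.assoc, h1, Category.assoc]
  have hfl1 := flat_spec_of_field θ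
  infer_instance

/-- Local rings of étale schemes over a discrete valuation ring at points over the closed point. -/
theorem exists_dvr_of_etale {A : Type u} [CommRing A] [IsDomain A] [IsDiscreteValuationRing A] {P : Scheme.{u}}
    (h : P ⟶ Spec (CommRingCat.of A)) [Etale h] (p : P) (hp : h p = (closedPoint A : PrimeSpectrum A)) {π : A}
    (hπ : Irreducible π) : ∃ _ : IsDomain (P.presheaf.stalk p), IsDiscreteValuationRing (P.presheaf.stalk p) ∧
      Irreducible (DualGr.stalkHom h p π) := by
  have : IsLocallyNoetherian P := LocallyOfFiniteType.isLocallyNoetherian h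
  have h1 : maximalIdeal (P.presheaf.stalk p) = Groth.Agent.CycB.FiberStalk.fibIdeal h p := by
    unfold Groth.Agent.CycB.FiberStalk.fibIdeal
    algebraize [(h.stalkMap p).hom]
    have : IsLocalHom (algebraMap ((Spec (CommRingCat.of A)).presheaf.stalk (h p)) (P.presheaf.stalk p)) :=
      inferInstanceAs <| IsLocalHom (h.stalkMap p).hom
    have : Algebra.EssFiniteType ((Spec (CommRingCat.of A)).presheaf.stalk (h p)) (P.presheaf.stalk p) := by
      rw [← RingHom.essFiniteType_algebraMap, RingHom.algebraMap_toAlgebra]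
      exact LocallyOfFiniteType.stalkMap h p
    have : Algebra.FormallyUnramified ((Spec (CommRingCat.of A)).presheaf.stalk (h p)) (P.presheaf.stalk p) := by
      rw [← RingHom.formallyUnramified_algebraMap, RingHom.algebraMap_toAlgebra]
      exact FormallyUnramified.stalkMap h p
    exact Algebra.FormallyUnramified.map_maximalIdeal.symm
  have h2 : maximalIdeal (P.presheaf.stalk p) = Ideal.span {DualGr.stalkHom h p π} := by
    rw [h1, K793.Basic.fibIdeal_eq_span h p hπ hp]
  have h3 := K793.Basic.stalkHom_mem_nonZeroDivisors h p hπ.ne_zero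
  obtain ⟨hd, hv⟩ := K793.FibGeom.exists_dvr h2 h3
  exact ⟨hd, hv, (IsDiscreteValuationRing.irreducible_iff_uniformizer _).2 h2⟩

end General

section Fibre

/-- The point of `V ×_Y Spec A` over `v` and the closed point. -/
theorem exists_point {V Y : Scheme.{u}} (e : V ⟶ Y) (v : V) (he : Function.Surjective (e.residueFieldMap v).hom)
    {A : Type u} [CommRing A] [IsLocalRing A] (c : Spec (CommRingCat.of A) ⟶ Y)
    (hc : c (closedPoint A : PrimeSpectrum A) = e v) :
    ∃ σ : Spec (CommRingCat.of (ResidueField A)) ⟶ pullback e c,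
      σ ≫ pullback.snd e c = Spec.map (CommRingCat.ofHom (residue A)) ∧
      (∀ z, pullback.fst e c (σ z) = v) ∧
      ∀ p : ↥(pullback e c), pullback.fst e c p = v →
        pullback.snd e c p = (closedPoint A : PrimeSpectrum A) →
        p = σ (closedPoint (ResidueField A) : PrimeSpectrum (ResidueField A)) := by
  have hres : ∀ z : Spec (CommRingCat.of (ResidueField A)),
      (Spec.map (CommRingCat.ofHom (residue A))) z = (closedPoint A : PrimeSpectrum A) := by
    intro z
    have h1 : IsLocalHom (residue A) := inferInstance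
    have h2 : z = (closedPoint (ResidueField A) : PrimeSpectrum (ResidueField A)) := Subsingleton.elim _ _
    rw [h2]
    exact IsLocalRing.comap_closedPoint (residue A)
  obtain ⟨x, hx1, hx2⟩ := ResPt.exists_hom_of_surjective e v he (Spec.map (CommRingCat.ofHom (residue A)) ≫ c)
    (by rw [Scheme.Hom.comp_apply, hres, hc])
  have hz : ∀ z : Spec (CommRingCat.of (ResidueField A)), x z = v := by
    intro z
    have h2 : z = (closedPoint (ResidueField A) : PrimeSpectrum (ResidueField A)) := Subsingleton.elim _ _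
    rw [h2, hx1]
  let σ : Spec (CommRingCat.of (ResidueField A)) ⟶ pullback e c :=
    pullback.lift x (Spec.map (CommRingCat.ofHom (residue A))) hx2
  have hσ1 : σ ≫ pullback.fst e c = x := pullback.lift_fst _ _ _
  have hσ2 : σ ≫ pullback.snd e c = Spec.map (CommRingCat.ofHom (residue A)) := pullback.lift_snd _ _ _
  refine ⟨σ, hσ2, fun z => by rw [← Scheme.Hom.comp_apply, hσ1, hz], ?_⟩
  intro p hp1 hp2
  let L := (pullback e c).residueField p
  let x₁ : Spec (CommRingCat.of L) ⟶ pullback e c := (pullback e c).fromSpecResidueField p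
  have hx₁ : ∀ z, x₁ z = p := fun z => Scheme.fromSpecResidueField_apply _ _
  -- the induced map on residue fields
  let β : CommRingCat.of A ⟶ CommRingCat.of L := Spec.preimage (x₁ ≫ pullback.snd e c)
  have hβ : Spec.map β = x₁ ≫ pullback.snd e c := Spec.map_preimage _
  have hker : ∀ a ∈ maximalIdeal A, β.hom a = 0 := by
    intro a ha
    have h2 : (Spec.map β) (closedPoint L : PrimeSpectrum L) = (closedPoint A : PrimeSpectrum A) := by
      rw [hβ, Scheme.Hom.comp_apply, hx₁, hp2]
    have h3 : a ∈ ((Spec.map β) (closedPoint L : PrimeSpectrum L)).asIdeal := by rw [h2]; exact ha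
    have h4 : β.hom a ∈ maximalIdeal L := h3
    rwa [IsLocalRing.maximalIdeal_eq_bot] at h4
  let α : CommRingCat.of (ResidueField A) ⟶ CommRingCat.of L :=
    CommRingCat.ofHom (Ideal.Quotient.lift (maximalIdeal A) β.hom hker)
  have hα : CommRingCat.ofHom (residue A) ≫ α = β := by
    ext a
    exact Ideal.Quotient.lift_mk (maximalIdeal A) β.hom hker
  have hsnd : x₁ ≫ pullback.snd e c = (Spec.map α ≫ σ) ≫ pullback.snd e c := by
    rw [Category.assoc, hσ2, ← Spec.map_comp, hα, hβ]
  have hfst : x₁ ≫ pullback.fst e c = (Spec.map α ≫ σ) ≫ pullback.fst e c := by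
    refine ResPt.hom_ext_of_surjective e v he _ _ (by rw [Scheme.Hom.comp_apply, hx₁, hp1]) ?_ ?_
    · rw [Category.assoc, hσ1, Scheme.Hom.comp_apply, hz]
    · rw [Category.assoc, Category.assoc, pullback.condition, ← Category.assoc, ← Category.assoc, hsnd]
  have h3 : x₁ = Spec.map α ≫ σ := pullback.hom_ext hfst hsnd
  rw [← hx₁ (closedPoint L : PrimeSpectrum L), h3, Scheme.Hom.comp_apply]
  exact congrArg _ (Subsingleton.elim _ _)

end Fibre

open K807.Iface in
/-- **Centres.** -/
theorem main : K807.Iface.Center.{u} := by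
  intro R _ _ _ _ ϖ hϖ C X Y V φ _ _ f _ hf hnod g _ hg e _ v hv ξ hξ hξ0 hd0
  obtain ⟨d0⟩ := hd0
  set q : X ⟶ Spec (CommRingCat.of R) := f ≫ φ with hq
  have hqξ : q ξ = (closedPoint R : PrimeSpectrum R) := by rw [hq, Scheme.Hom.comp_apply]; exact hξ0
  -- the local ring at `ξ`
  obtain ⟨hAdom, hAdvr, hAirr⟩ := NodalPt.exists_dvr q hϖ hnod ξ hqξ hξ
  let A : Type u := X.presheaf.stalk ξ
  let i : Spec (CommRingCat.of A) ⟶ X := X.fromSpecStalk ξ
  have hi : Spec.map (CommRingCat.ofHom (DualGr.stalkHom q ξ)) = i ≫ q := specMap_stalkHom q ξ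
  have hgen : ∀ {B : Type u} [CommRing B] [IsDomain B] (b : Spec (CommRingCat.of B) ⟶ X) (ρ : R →+* B)
      (_ : Spec.map (CommRingCat.ofHom ρ) = b ≫ q) (_ : ρ ϖ ≠ 0),
      φ (f (b (⊥ : PrimeSpectrum B))) ≠ (closedPoint R : PrimeSpectrum R) := by
    intro B _ _ b ρ hρ hρ0 h
    have h1 : (Spec.map (CommRingCat.ofHom ρ)) (⊥ : PrimeSpectrum B) = (closedPoint R : PrimeSpectrum R) := by
      rw [hρ, Scheme.Hom.comp_apply, hq, Scheme.Hom.comp_apply]
      exact h
    rw [K793.Basic.eq_closedPoint_iff _ hϖ] at h1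
    have h2 : ρ ϖ ∈ (⊥ : Ideal B) := h1
    exact hρ0 h2
  have hAgen : φ (f (i (⊥ : PrimeSpectrum A))) ≠ (closedPoint R : PrimeSpectrum R) :=
    hgen i _ hi hAirr.ne_zero
  -- the centre
  obtain ⟨c, hc⟩ := EtaPts.exists_lift φ g hg (A := A) (i ≫ f) (by
    rw [Scheme.Hom.comp_apply]; exact hAgen)
  -- a compatible pair is given by `c`
  have key : ∀ {T' : Type u} [CommRing T'] [IsDomain T'] [IsLocalRing T'] (a' : Spec (CommRingCat.of T') ⟶ Y)
      (b' : Spec (CommRingCat.of T') ⟶ X) (_ : a' ≫ g = b' ≫ f)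
      (_ : b' (closedPoint T' : PrimeSpectrum T') = ξ)
      (_ : φ (f (b' (⊥ : PrimeSpectrum T'))) ≠ (closedPoint R : PrimeSpectrum R)),
      ∃ ψ : A →+* T', IsLocalHom ψ ∧ Spec.map (CommRingCat.ofHom ψ) ≫ i = b' ∧
        Spec.map (CommRingCat.ofHom ψ) ≫ c = a' := by
    intro T' _ _ _ a' b' hw hb hgg
    obtain ⟨ψ, hψ, hψ'⟩ := EtaPts.exists_factor b' ξ hb
    refine ⟨ψ, hψ, hψ', ?_⟩
    refine EtaPts.hom_ext φ g hg (b' ≫ f) (by rw [Scheme.Hom.comp_apply]; exact hgg) _ _ ?_ hw
    rw [Category.assoc, hc, ← Category.assoc]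
    exact congrArg (· ≫ f) hψ'
  have hcl : ∀ {T' : Type u} [CommRing T'] [IsLocalRing T'] (ψ : A →+* T') (_ : IsLocalHom ψ),
      (Spec.map (CommRingCat.ofHom ψ)) (closedPoint T' : PrimeSpectrum T') = (closedPoint A : PrimeSpectrum A) := by
    intro T' _ _ ψ hψ
    exact IsLocalRing.comap_closedPoint ψ
  have hcv : c (closedPoint A : PrimeSpectrum A) = e v := by
    obtain ⟨ψ, hψ, h1, h2⟩ := key d0.a d0.b d0.w d0.hb d0.hg
    rw [← hcl ψ hψ, ← Scheme.Hom.comp_apply, h2, d0.ha]
  -- the residue field of `v`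
  have hsurj : Function.Surjective (e.residueFieldMap v).hom := by
    refine ResPt.residueFieldMap_surjective e (g ≫ φ) v ?_
    refine ResPt.residue_surjective (e ≫ g ≫ φ) v hv ?_
    rw [Scheme.Hom.comp_apply, ← hcv, ← Scheme.Hom.comp_apply, ← Category.assoc, hc, Category.assoc, ← hq,
      Scheme.Hom.comp_apply]
    exact (congrArg q (X.fromSpecStalk_closedPoint)).trans hqξ
  obtain ⟨σ, hσ1, hσ2, hσ3⟩ := exists_point e v hsurj c hcv
  let P := pullback e c
  let h : P ⟶ Spec (CommRingCat.of A) := pullback.snd e c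
  let p : P := σ (closedPoint (ResidueField A) : PrimeSpectrum (ResidueField A))
  have hp : h p = (closedPoint A : PrimeSpectrum A) := by
    change (pullback.snd e c) (σ _) = _
    rw [← Scheme.Hom.comp_apply, hσ1]
    exact hcl (residue A) inferInstance
  obtain ⟨hTdom, hTdvr, hTirr⟩ := exists_dvr_of_etale h p hp hAirr
  let T : Type u := P.presheaf.stalk p
  let j : Spec (CommRingCat.of T) ⟶ P := P.fromSpecStalk p
  let τA : A →+* T := DualGr.stalkHom h p
  have hj : Spec.map (CommRingCat.ofHom τA) = j ≫ h := specMap_stalkHom h p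
  have hjcl : j (closedPoint T : PrimeSpectrum T) = p := P.fromSpecStalk_closedPoint
  let a : Spec (CommRingCat.of T) ⟶ V := j ≫ pullback.fst e c
  let b : Spec (CommRingCat.of T) ⟶ X := (j ≫ h) ≫ i
  have hstr : Spec.map (CommRingCat.ofHom (τA.comp (DualGr.stalkHom q ξ))) = b ≫ q := by
    rw [CommRingCat.ofHom_comp, Spec.map_comp, hi, hj, Category.assoc (j ≫ h) i q]
  let d : Dat φ f (e ≫ g) v ξ :=
    { T := T
      a := a
      b := b
      w := by
        change (j ≫ pullback.fst e c) ≫ e ≫ g = ((j ≫ pullback.snd e c) ≫ i) ≫ f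
        rw [Category.assoc, pullback.condition_assoc, Category.assoc, Category.assoc, ← hc]
      ha := by
        change (j ≫ pullback.fst e c) _ = v
        rw [Scheme.Hom.comp_apply, hjcl]
        exact hσ2 _
      hb := by
        change ((j ≫ h) ≫ i) _ = ξ
        rw [Scheme.Hom.comp_apply, Scheme.Hom.comp_apply, hjcl, hp]
        exact X.fromSpecStalk_closedPoint
      hg := hgen b _ hstr hTirr.ne_zero }
  have hdstr : d.str = τA.comp (DualGr.stalkHom q ξ) := by
    have h1 := d.Spec_map_str
    have h2 : Spec.map (CommRingCat.ofHom d.str) =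
        Spec.map (CommRingCat.ofHom (τA.comp (DualGr.stalkHom q ξ))) := h1.trans hstr.symm
    exact congrArg CommRingCat.Hom.hom (Spec.map_injective h2)
  refine ⟨d, ?_, ?_, ?_, ?_⟩
  · rw [hdstr]
    exact hTirr
  · -- residue fields
    obtain ⟨ψ, hψ, hψ'⟩ := EtaPts.exists_factor σ p rfl
    have h1 : Spec.map (CommRingCat.ofHom ψ) ≫ b = X.fromSpecResidueField ξ := by
      change Spec.map (CommRingCat.ofHom ψ) ≫ (j ≫ h) ≫ i = _
      rw [← Category.assoc, ← Category.assoc]
      have h2 : Spec.map (CommRingCat.ofHom ψ) ≫ j = σ := hψ'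
      rw [h2, hσ1]
      rfl
    have h3 := (Groth.Agent.CycB.P1PtClosure.residueFieldMap_surjective b (ξ := ξ)
      (Spec.map (CommRingCat.ofHom ψ)) h1).2
    have h4 : (Spec.map (CommRingCat.ofHom ψ)) (closedPoint (ResidueField A) : PrimeSpectrum (ResidueField A)) =
        (closedPoint T : PrimeSpectrum T) := IsLocalRing.comap_closedPoint ψ
    rw [← h4]
    exact h3
  · -- flatness
    have hτinj : Function.Injective τA := by
      rw [injective_iff_map_eq_zero]
      intro r hr
      by_contra hr0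
      refine one_ne_zero (α := T) (K793.Basic.eq_zero_of_stalkHom_mul h p hr0 ?_)
      rw [mul_one]
      exact hr
    refine flat_frac e a c τA hτinj ?_ (flat_center φ f hf g hg i (Groth.Agent.S1471.flat_fromSpecStalk X ξ) c hc hAgen)
    rw [hj]
    change (j ≫ pullback.fst e c) ≫ e = (j ≫ pullback.snd e c) ≫ c
    rw [Category.assoc, pullback.condition, Category.assoc]
  · -- universality
    intro d'
    obtain ⟨ψ, hψ, h1, h2⟩ := key (d'.a ≫ e) d'.b (by rw [Category.assoc]; exact d'.w) d'.hb d'.hg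
    let l : Spec (CommRingCat.of d'.T) ⟶ P := pullback.lift d'.a (Spec.map (CommRingCat.ofHom ψ)) h2.symm
    have hl1 : l ≫ pullback.fst e c = d'.a := pullback.lift_fst _ _ _
    have hl2 : l ≫ pullback.snd e c = Spec.map (CommRingCat.ofHom ψ) := pullback.lift_snd _ _ _
    have hl3 : l (closedPoint d'.T : PrimeSpectrum d'.T) = p := by
      apply hσ3
      · rw [← Scheme.Hom.comp_apply, hl1, d'.ha]
      · rw [← Scheme.Hom.comp_apply, hl2]
        exact hcl ψ hψ
    obtain ⟨τ, hτ, hτ'⟩ := EtaPts.exists_factor l p hl3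
    have hτ'' : Spec.map (CommRingCat.ofHom τ) ≫ j = l := hτ'
    refine ⟨τ, ?_, ?_⟩
    · change Spec.map (CommRingCat.ofHom τ) ≫ j ≫ pullback.fst e c = _
      rw [← Category.assoc, hτ'', hl1]
    · change Spec.map (CommRingCat.ofHom τ) ≫ (j ≫ h) ≫ i = _
      rw [← Category.assoc, ← Category.assoc, hτ'']
      change (l ≫ pullback.snd e c) ≫ i = _
      rw [hl2, h1]

end K844.Center
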